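import Groth.Agent.RaynaudGruson.DomainFP
import Mathlib

/-!
An extension of valuation rings composed from two étale extensions is étale.
-/

set_option autoImplicit false
universe u

open TensorProduct

namespace Groth.ValEtale

theorem finitePresentation_of_flat_of_finiteType (R S : Type u) [CommRing R] [IsDomain R] [CommRing S] [Algebra R S]
    [Algebra.FiniteType R S] [Module.Flat R S] : Algebra.FinitePresentation R S := by
  obtain ⟨n, f, hf⟩ := Algebra.FiniteType.iff_quotient_mvPolynomial''.mp ‹Algebra.FiniteType R S›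
  let P := MvPolynomial (Fin n) R
  letI : Algebra P S := f.toRingHom.toAlgebra
  haveI : IsScalarTower R P S := .of_algebraMap_eq fun r => (f.commutes r).symm
  haveI : Module.Finite P S := Module.Finite.of_surjective (Algebra.linearMap P S) hf
  haveI : Module.FinitePresentation P S := RaynaudGruson.DomainFP.finitePresentation_of_flat R P S
  have hker : (RingHom.ker f.toRingHom).FG := Module.FinitePresentation.fg_ker (Algebra.linearMap P S) hf
  exact Algebra.FinitePresentation.of_surjective (A := P) hf hker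

theorem etale_of_composed {R S : Type u} [CommRing R] [IsDomain R] [ValuationRing R] [CommRing S] [IsDomain S]
    [ValuationRing S] [Algebra R S] (hinj : Function.Injective (algebraMap R S)) [Finite (PrimeSpectrum R)]
    (P : Ideal S) [P.IsPrime] (p : Ideal R) [p.IsPrime] [P.LiesOver p]
    [Algebra (Localization.AtPrime p) (Localization.AtPrime P)] [Localization.AtPrime.IsLiesOverAlgebra p P]
    [Algebra.Etale (Localization.AtPrime p) (Localization.AtPrime P)] [Algebra.Etale (R ⧸ p) (S ⧸ P)] :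
    Algebra.Etale R S := by
  classical
  haveI : FaithfulSMul R S := (faithfulSMul_iff_algebraMap_injective R S).mpr hinj
  haveI : Module.IsTorsionFree R S := inferInstance
  haveI : Module.Flat R S := Module.Flat.flat_iff_torsion_eq_bot_of_isBezout.mpr
    (Submodule.isTorsionFree_iff_torsion_eq_bot.mp inferInstance)
  -- an element lying in the primes above `p` only
  haveI := Fintype.ofFinite (PrimeSpectrum R)
  have hb : ∀ Q : PrimeSpectrum R, ∃ b, b ∉ p ∧ (¬ Q.asIdeal ≤ p → b ∈ Q.asIdeal) := fun Q => by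
    by_cases h : Q.asIdeal ≤ p
    · exact ⟨1, fun h1 => Ideal.IsPrime.ne_top inferInstance ((Ideal.eq_top_iff_one p).mpr h1), fun h' => absurd h h'⟩
    · obtain ⟨b, hbQ, hbp⟩ := Set.not_subset.mp h
      exact ⟨b, hbp, fun _ => hbQ⟩
  choose b hbp hbQ using hb
  let a := ∏ Q, b Q
  have hap : a ∉ p := fun h => by
    obtain ⟨Q, -, hQ⟩ := (Ideal.IsPrime.prod_mem_iff (p := p)).mp h
    exact hbp Q hQ
  have haQ : ∀ Q : Ideal R, Q.IsPrime → ¬ Q ≤ p → a ∈ Q := fun Q hQ h =>
    Ideal.IsPrime.prod_mem_iff.mpr ⟨⟨Q, hQ⟩, Finset.mem_univ _, hbQ ⟨Q, hQ⟩ h⟩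
  let α := algebraMap R S a
  have hαP : α ∉ P := fun h => hap ((Ideal.mem_of_liesOver P p a).mpr h)
  have hαQ : ∀ Q : Ideal S, Q.IsPrime → ¬ Q ≤ P → α ∈ Q := fun Q hQ h => by
    have hPQ : P ≤ Q := (le_total P Q).resolve_right h
    refine haQ (Q.comap (algebraMap R S)) (Ideal.IsPrime.comap _) fun hle => h (le_of_eq ?_)
    haveI := hQ
    have hker : RingHom.ker (Ideal.Quotient.mk P) ≤ Q := by rwa [Ideal.mk_ker]
    haveI : (Q.map (Ideal.Quotient.mk P)).IsPrime := Ideal.map_isPrime_of_surjective Ideal.Quotient.mk_surjective hker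
    haveI : Algebra.QuasiFinite (R ⧸ p) (S ⧸ P) := inferInstance
    have h0 := Algebra.QuasiFinite.eq_of_le_of_under_eq (R := R ⧸ p) (⊥ : Ideal (S ⧸ P)) (Q.map (Ideal.Quotient.mk P))
      bot_le (by
        refine le_antisymm (Ideal.comap_mono bot_le) fun x hx => ?_
        obtain ⟨x, rfl⟩ := Ideal.Quotient.mk_surjective x
        have hxQ : algebraMap R S x ∈ Q := by
          have hx' : Ideal.Quotient.mk P (algebraMap R S x) ∈ Q.map (Ideal.Quotient.mk P) := hx
          obtain ⟨y, hy, hxy⟩ := (Ideal.mem_map_iff_of_surjective _ Ideal.Quotient.mk_surjective).mp hx'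
          have h' := Q.sub_mem hy (hPQ (Ideal.Quotient.eq.mp hxy))
          rwa [sub_sub_cancel] at h'
        rw [Ideal.Quotient.eq_zero_iff_mem.mpr (hle hxQ)]
        exact zero_mem _)
    rw [eq_comm, Ideal.map_eq_bot_iff_le_ker, Ideal.mk_ker] at h0
    exact le_antisymm h0 hPQ
  have hu : ∀ s ∉ P, ∃ n c, s * c = α ^ n := fun s hs => by
    have h : α ∈ (Ideal.span {s}).radical := by
      rw [Ideal.radical_eq_sInf, Submodule.mem_sInf]
      rintro Q ⟨hle, hQ⟩
      exact hαQ Q hQ fun h => hs (h (hle (Ideal.mem_span_singleton_self s)))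
    obtain ⟨n, hn⟩ := h
    obtain ⟨c, hc⟩ := Ideal.mem_span_singleton.mp hn
    exact ⟨n, c, hc.symm⟩
  have huR : ∀ s ∉ p, ∃ n c, s * c = a ^ n := fun s hs => by
    have h : a ∈ (Ideal.span {s}).radical := by
      rw [Ideal.radical_eq_sInf, Submodule.mem_sInf]
      rintro Q ⟨hle, hQ⟩
      exact haQ Q hQ fun h => hs (h (hle (Ideal.mem_span_singleton_self s)))
    obtain ⟨n, hn⟩ := h
    obtain ⟨c, hc⟩ := Ideal.mem_span_singleton.mp hn
    exact ⟨n, c, hc.symm⟩
  have hdiv : ∀ q ∈ p, ∀ n : ℕ, ∃ q' ∈ p, q = a ^ n * q' := fun q hq n => by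
    rcases ValuationRing.dvd_total (a ^ n) q with ⟨q', rfl⟩ | ⟨d, hd⟩
    · exact ⟨q', ((inferInstance : p.IsPrime).mem_or_mem hq).resolve_left
        fun h => hap ((inferInstance : p.IsPrime).mem_of_pow_mem n h), rfl⟩
    · exact absurd ((inferInstance : p.IsPrime).mem_of_pow_mem n (hd ▸ p.mul_mem_right d hq)) hap
  -- the prime is extended from `p`
  let SP := Localization.AtPrime P
  let Rp := Localization.AtPrime p
  haveI : IsScalarTower R Rp SP := inferInstance
  haveI : IsLocalHom (algebraMap Rp SP) := by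
    rw [Localization.AtPrime.IsLiesOverAlgebra.algebraMap_eq (p := p) (P := P)]
    infer_instance
  have hP : P ≤ p.map (algebraMap R S) := fun x hx => by
    have hm : (IsLocalRing.maximalIdeal Rp).map (algebraMap Rp SP) = IsLocalRing.maximalIdeal SP :=
      Algebra.FormallyUnramified.map_maximalIdeal
    have hmem : algebraMap S SP x ∈ (p.map (algebraMap R S)).map (algebraMap S SP) := by
      rw [Ideal.map_map, ← IsScalarTower.algebraMap_eq, IsScalarTower.algebraMap_eq R Rp SP, ← Ideal.map_map,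
        Localization.AtPrime.map_eq_maximalIdeal, hm]
      exact (IsLocalization.AtPrime.to_map_mem_maximal_iff SP P x).mpr hx
    obtain ⟨⟨⟨y, hy⟩, ⟨s, hs⟩⟩, hys⟩ := (IsLocalization.mem_map_algebraMap_iff P.primeCompl SP).mp hmem
    obtain ⟨n, c, hc⟩ := hu s hs
    have hxy : x * s = y :=
      IsLocalization.injective SP P.primeCompl_le_nonZeroDivisors (by simpa using hys)
    have hxa : x * α ^ n ∈ p.map (algebraMap R S) := by
      rw [← hc, ← mul_assoc, hxy]; exact Ideal.mul_mem_right _ _ hy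
    have hmn : p.map (algebraMap R S) ≤ Ideal.span {α ^ n} * p.map (algebraMap R S) := by
      rw [Ideal.map_le_iff_le_comap]
      intro q hq
      obtain ⟨q', hq', rfl⟩ := hdiv q hq n
      rw [Ideal.mem_comap, map_mul, map_pow]
      exact Ideal.mul_mem_mul (Ideal.mem_span_singleton_self _) (Ideal.mem_map_of_mem _ hq')
    obtain ⟨z, hz, hzx⟩ := Ideal.mem_span_singleton_mul.mp (hmn hxa)
    have hα0 : α ^ n ≠ 0 := pow_ne_zero n fun h => hαP (h ▸ zero_mem P)
    rwa [mul_left_cancel₀ hα0 (hzx.trans (mul_comm _ _))] at hz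
  -- finite type
  obtain ⟨G, hG⟩ := (inferInstance : Algebra.FiniteType Rp SP).out
  obtain ⟨W, hW⟩ := (inferInstance : Algebra.FiniteType (R ⧸ p) (S ⧸ P)).out
  have hnum : ∀ g : SP, ∃ (n : ℕ) (z : S), g * algebraMap S SP (α ^ n) = algebraMap S SP z := fun g => by
    obtain ⟨⟨z, ⟨s, hs⟩⟩, hg⟩ := IsLocalization.surj P.primeCompl g
    obtain ⟨n, c, hc⟩ := hu s hs
    exact ⟨n, z * c, by rw [← hc, map_mul, ← mul_assoc, map_mul, ← hg]⟩
  choose ν ζ hζ using hnum
  choose lift hlift using fun w : S ⧸ P => Ideal.Quotient.mk_surjective w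
  let C : Subalgebra R S := Algebra.adjoin R ((G.image ζ ∪ W.image lift : Finset S) : Set S)
  have hαC : ∀ n : ℕ, α ^ n ∈ C := fun n => pow_mem (C.algebraMap_mem a) n
  have hgen : ∀ y : SP, ∃ (n : ℕ) (c : S), c ∈ C ∧ y * algebraMap S SP (α ^ n) = algebraMap S SP c := fun y => by
    have hy : y ∈ Algebra.adjoin Rp (G : Set SP) := hG ▸ Algebra.mem_top
    induction hy using Algebra.adjoin_induction with
    | mem g hg => exact ⟨ν g, ζ g, Algebra.subset_adjoin (by simp only [Finset.coe_union, Finset.coe_image]; exact Or.inl ⟨g, hg, rfl⟩), hζ g⟩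
    | algebraMap r =>
      obtain ⟨⟨r₀, ⟨s, hs⟩⟩, hr⟩ := IsLocalization.surj p.primeCompl r
      obtain ⟨n, c, hc⟩ := huR s hs
      refine ⟨n, algebraMap R S (r₀ * c), C.algebraMap_mem _, ?_⟩
      simp only [α, ← map_pow]
      rw [← IsScalarTower.algebraMap_apply, ← IsScalarTower.algebraMap_apply, IsScalarTower.algebraMap_apply R Rp SP,
        IsScalarTower.algebraMap_apply R Rp SP, ← map_mul, ← hc, map_mul (algebraMap R Rp), ← mul_assoc, hr, ← map_mul]
    | add y z _ _ hy hz =>
      obtain ⟨n, c, hc, h⟩ := hy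
      obtain ⟨m, d, hd, h'⟩ := hz
      refine ⟨n + m, c * α ^ m + d * α ^ n, C.add_mem (C.mul_mem hc (hαC m)) (C.mul_mem hd (hαC n)), ?_⟩
      rw [map_add, map_mul, map_mul, ← h, ← h', pow_add, map_mul]; ring
    | mul y z _ _ hy hz =>
      obtain ⟨n, c, hc, h⟩ := hy
      obtain ⟨m, d, hd, h'⟩ := hz
      refine ⟨n + m, c * d, C.mul_mem hc hd, ?_⟩
      rw [map_mul, ← h, ← h', pow_add, map_mul]; ring
  have hmod : ∀ y : S, ∃ c ∈ C, y - c ∈ P := fun y => by
    suffices ∀ w : S ⧸ P, ∃ c ∈ C, Ideal.Quotient.mk P c = w by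
      obtain ⟨c, hc, h⟩ := this (Ideal.Quotient.mk P y)
      exact ⟨c, hc, Ideal.Quotient.eq.mp h.symm⟩
    intro w
    have hw : w ∈ Algebra.adjoin (R ⧸ p) (W : Set (S ⧸ P)) := hW ▸ Algebra.mem_top
    induction hw using Algebra.adjoin_induction with
    | mem g hg => exact ⟨lift g, Algebra.subset_adjoin (by simp only [Finset.coe_union, Finset.coe_image]; exact Or.inr ⟨g, hg, rfl⟩), hlift g⟩
    | algebraMap r =>
      obtain ⟨r, rfl⟩ := Ideal.Quotient.mk_surjective r
      exact ⟨algebraMap R S r, C.algebraMap_mem r, rfl⟩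
    | add y z _ _ hy hz =>
      obtain ⟨c, hc, rfl⟩ := hy
      obtain ⟨d, hd, rfl⟩ := hz
      exact ⟨c + d, C.add_mem hc hd, map_add _ _ _⟩
    | mul y z _ _ hy hz =>
      obtain ⟨c, hc, rfl⟩ := hy
      obtain ⟨d, hd, rfl⟩ := hz
      exact ⟨c * d, C.mul_mem hc hd, map_mul _ _ _⟩
  have hPC : ∀ x ∈ p.map (algebraMap R S), ∀ y : S, x * y ∈ C := fun x hx => by
    induction hx using Submodule.span_induction with
    | mem x hx =>
      obtain ⟨q, hq, rfl⟩ := hx
      intro y
      obtain ⟨n, c, hc, h⟩ := hgen (algebraMap S SP y)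
      rw [← map_mul] at h
      obtain ⟨q', -, rfl⟩ := hdiv q hq n
      rw [map_mul, map_pow, mul_comm (_ ^ n), mul_assoc, mul_comm _ y,
        IsLocalization.injective SP P.primeCompl_le_nonZeroDivisors h]
      exact C.mul_mem (C.algebraMap_mem q') hc
    | zero => intro y; rw [zero_mul]; exact zero_mem _
    | add x z _ _ hx hz => intro y; rw [add_mul]; exact add_mem (hx y) (hz y)
    | smul t x _ hx => intro y; rw [smul_eq_mul, mul_assoc, mul_left_comm]; exact hx (t * y)
  have hCtop : C = ⊤ := eq_top_iff.mpr fun y _ => by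
    obtain ⟨c, hc, h⟩ := hmod y
    have := hPC _ (hP h) 1
    rw [mul_one] at this
    simpa using C.add_mem this hc
  haveI : Algebra.FiniteType R S := ⟨⟨_, hCtop⟩⟩
  haveI := finitePresentation_of_flat_of_finiteType R S
  -- formally unramified
  haveI : Algebra.FormallyUnramified R (R ⧸ p) := .of_surjective (Algebra.ofId R (R ⧸ p)) Ideal.Quotient.mk_surjective
  haveI : IsScalarTower R (R ⧸ p) (S ⧸ P) := .of_algebraMap_eq fun _ => rfl
  haveI : Algebra.FormallyUnramified R (S ⧸ P) := .comp R (R ⧸ p) (S ⧸ P)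
  haveI : Algebra.FormallyEtale R Rp := .of_isLocalization p.primeCompl
  haveI : Algebra.FormallyUnramified R SP := .comp R Rp SP
  let Ω := Ω[S⁄R]
  have hΩ : ∀ w : Ω, w ∈ p.map (algebraMap R S) • (⊤ : Submodule S Ω) := fun w => by
    obtain ⟨k, hk⟩ := (KaehlerDifferential.exact_kerCotangentToTensor_mapBaseChange R S (S ⧸ P)
      Ideal.Quotient.mk_surjective ((1 : S ⧸ P) ⊗ₜ[S] w)).mp (Subsingleton.elim _ _)
    obtain ⟨⟨x, hx⟩, rfl⟩ := (RingHom.ker (algebraMap S (S ⧸ P))).toCotangent_surjective k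
    rw [KaehlerDifferential.kerCotangentToTensor_toCotangent] at hk
    have hxP : x ∈ p.map (algebraMap R S) := hP (Ideal.Quotient.eq_zero_iff_mem.mp hx)
    have hD : ∀ z ∈ p.map (algebraMap R S), KaehlerDifferential.D R S z ∈ p.map (algebraMap R S) • (⊤ : Submodule S Ω) := by
      intro z hz
      induction hz using Submodule.span_induction with
      | mem z hz =>
        obtain ⟨q, -, rfl⟩ := hz
        rw [Derivation.map_algebraMap]; exact zero_mem _
      | zero => rw [map_zero]; exact zero_mem _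
      | add x z _ _ hx hz => rw [map_add]; exact add_mem hx hz
      | smul t z hz hz' =>
        rw [smul_eq_mul, Derivation.leibniz]
        exact add_mem (Submodule.smul_mem _ t hz') (Submodule.smul_mem_smul hz trivial)
    have heq : Ideal.map (algebraMap R S) p = P := le_antisymm (Ideal.map_le_iff_le_comap.mpr
      (fun q hq => (Ideal.mem_of_liesOver P p q).mp hq)) hP
    rw [heq] at hD ⊢
    have h1 := congrArg (TensorProduct.quotTensorEquivQuotSMul Ω P) hk
    rw [← map_one (Ideal.Quotient.mk P), TensorProduct.quotTensorEquivQuotSMul_mk_tmul, TensorProduct.quotTensorEquivQuotSMul_mk_tmul, one_smul, one_smul,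
      Submodule.Quotient.eq] at h1
    have := sub_mem (hD x (heq ▸ hxP)) h1
    simpa using this
  have hkill : ∀ w : Ω, ∃ n : ℕ, α ^ n • w = 0 := fun w => by
    obtain ⟨⟨s, hs⟩, h⟩ := (IsLocalizedModule.eq_zero_iff P.primeCompl (KaehlerDifferential.map R R S SP) (m := w)).mp
      (Subsingleton.elim _ _)
    obtain ⟨n, c, hc⟩ := hu s hs
    exact ⟨n, by rw [← hc, mul_comm, mul_smul, show s • w = 0 from h, smul_zero]⟩
  obtain ⟨T, hT⟩ := (inferInstance : Module.Finite S Ω).fg_top
  choose n hn using hkill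
  let N := T.sup n
  have hN : ∀ w : Ω, α ^ N • w = 0 := fun w => by
    have hle : Submodule.span S (T : Set Ω) ≤ LinearMap.ker (LinearMap.lsmul S Ω (α ^ N)) :=
      Submodule.span_le.mpr fun t ht => by
        show α ^ T.sup n • t = 0
        rw [← Nat.sub_add_cancel (Finset.le_sup (f := n) ht : n t ≤ T.sup n), pow_add, mul_smul, hn, smul_zero]
    exact hle (hT ▸ Submodule.mem_top : w ∈ Submodule.span S (T : Set Ω))
  haveI : Algebra.FormallyUnramified R S := ⟨⟨fun v w => by
    suffices ∀ v : Ω, v = 0 by rw [this v, this w]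
    intro v
    refine Submodule.smul_induction_on (p := fun v => v = 0) (hΩ v) (fun z hz x _ => ?_) (fun x y hx hy => by rw [hx, hy, add_zero])
    induction hz using Submodule.span_induction with
    | mem z hz =>
      obtain ⟨q, hq, rfl⟩ := hz
      obtain ⟨q', -, rfl⟩ := hdiv q hq N
      rw [map_mul, map_pow, mul_comm, mul_smul, hN, smul_zero]
    | zero => rw [zero_smul]
    | add a b _ _ ha hb => rw [add_smul, ha, hb, add_zero]
    | smul t a _ ha => rw [smul_eq_mul, mul_smul, ha, smul_zero]⟩⟩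
  exact Algebra.Etale.of_formallyUnramified_of_flat

end Groth.ValEtale
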